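import Cfsg.Agent.KFacts.TwoSix.Sheet
import Cfsg.Agent.Held.PresCard
import Cfsg.Agent.Held.GenC
set_option linter.all false

/-!
# A group with root elements `x i j` satisfying the Steinberg relations contains `CC`

`xC i j : CC` are the root elements of `CC`; `exists_hom`: if `x` satisfies the relations `St`, there is
`f : CC →* G` with `f (xC i j) = x i j` for the 12 letters; `inj`: it is injective if `x 0 4 ≠ 1`;
`hyp`: if `|C_G(x 0 4)| ≤ 21504` its range is `C_G(x 0 4)`.
-/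

set_option autoImplicit false

namespace Cfsg.Agent.KFacts.TwoSix.OfSt

open Cfsg.Agent.SporadicRecognition.HeldModel Cfsg.Agent.Held.AffineIso Cfsg.Agent.Held.Letters
  Cfsg.Agent.KFacts.TwoSix.Base Cfsg.Agent.KFacts.TwoSix.Facts Cfsg.Agent.KFacts.TwoSix.Normal
  Cfsg.Agent.KFacts.TwoSix.Aut Cfsg.Agent.KFacts.TwoSix.U
open Cfsg.Agent.Held.Code (Emb C X exists_emb toMat_zc)
open Cfsg.Agent.Held.EmbSt (cx C_cx st_of_emb gx_ph)
open Cfsg.Agent.Lib.F2Mat (toMat)

/-- the root elements of `CC` -/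
def xC (i j : ℕ) : CC :=
  if h : i < 4 ∧ j < 5 ∧ i ≠ j ∧ j ≠ 0 then
    ⟨x ⟨i, by omega⟩ ⟨j, by omega⟩ (by intro e; exact h.2.2.1 (congrArg Fin.val e)),
      x_mem _ (by intro e; exact h.2.2.2 (congrArg Fin.val e))
        (by intro e; have : i = 4 := congrArg Fin.val e; omega)⟩
  else 1

theorem xC_eq {i j : Fin 5} (h : i ≠ j) (hj : j ≠ 0) (hi : i ≠ 4) :
    xC i j = ⟨x i j h, x_mem h hj hi⟩ := by
  have h1 : (i : ℕ) < 4 ∧ (j : ℕ) < 5 ∧ (i : ℕ) ≠ j ∧ (j : ℕ) ≠ 0 := by
    refine ⟨?_, j.2, fun e => h (Fin.ext e), fun e => hj (Fin.ext e)⟩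
    have h2 : (i : ℕ) ≠ 4 := fun e => hi (Fin.ext e)
    have := i.2
    omega
  unfold xC
  rw [dif_pos h1]

theorem xC04 : xC 0 4 = zC := xC_eq (i := 0) (j := 4) (by decide) (by decide) (by decide)

/-- the pairs `(i, j)` of the letters -/
def pr (n : ℕ) : ℕ × ℕ :=
  [(0, 1), (0, 2), (0, 3), (0, 4), (1, 2), (1, 3), (1, 4), (2, 3), (2, 4), (3, 4), (2, 1), (3, 2)].getD n
    (0, 0)

theorem toMat_cx (n : ℕ) : toMat 5 (cx n) = ((gx xC n : CC) : L5).1 := by
  rcases Nat.lt_or_ge n 12 with hn | hn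
  · have key : ∀ (i j : Fin 5) (h : i ≠ j) (hj : j ≠ 0) (hi : i ≠ 4),
        toMat 5 (X i j) = ((xC i j : CC) : L5).1 := by
      intro i j h hj hi
      rw [xC_eq h hj hi]
      show _ = (x i j h).1
      rw [← toMat_cd, cd_x]
      congr 1
    interval_cases n
    · exact key 0 1 (by decide) (by decide) (by decide)
    · exact key 0 2 (by decide) (by decide) (by decide)
    · exact key 0 3 (by decide) (by decide) (by decide)
    · exact key 0 4 (by decide) (by decide) (by decide)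
    · exact key 1 2 (by decide) (by decide) (by decide)
    · exact key 1 3 (by decide) (by decide) (by decide)
    · exact key 1 4 (by decide) (by decide) (by decide)
    · exact key 2 3 (by decide) (by decide) (by decide)
    · exact key 2 4 (by decide) (by decide) (by decide)
    · exact key 3 4 (by decide) (by decide) (by decide)
    · exact key 2 1 (by decide) (by decide) (by decide)
    · exact key 3 2 (by decide) (by decide) (by decide)
  · rw [gx_of_ge _ hn, Held.EmbSt.cx_of_ge hn]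
    show toMat 5 Held.Code.e1 = (1 : Matrix (Fin 5) (Fin 5) (ZMod 2))
    rw [← Held.Code.one_eq_e1, Lib.F2Mat.toMat_one]

theorem st_xC : St xC ∧ Subgroup.closure (gx xC '' {n | n < 12}) = ⊤ := by
  obtain ⟨ph, h0, hph⟩ := exists_emb zC (MonoidHom.id CC) Function.injective_id
    (by
      have h1 : (MonoidHom.id CC).range = Subgroup.centralizer {zC} := by
        rw [MonoidHom.range_eq_top.2 Function.surjective_id]
        symm
        rw [eq_top_iff]
        intro g _
        rw [Subgroup.mem_centralizer_singleton_iff]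
        exact Subtype.ext (zz_comm g.2)
      exact h1)
    (fun _ => rfl)
  have e : ∀ n, gx (fun i j => ph (X i j)) n = gx xC n := by
    intro n
    rw [gx_ph h0]
    exact hph (gx xC n : CC).1 (gx xC n : CC).2 (cx n) (C_cx n) (toMat_cx n)
  have e' : gx (fun i j => ph (X i j)) = gx xC := funext e
  have h1 := st_of_emb h0
  have h2 := Held.GenC.closure_gx h0
  rw [e'] at h2
  refine ⟨⟨fun n => ?_, fun r hr => ?_⟩, ?_⟩
  · rw [← e]; exact h1.sq n
  · rw [← e']; exact h1.rel r hr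
  · rw [h2, eq_top_iff]
    intro g _
    rw [Subgroup.mem_centralizer_singleton_iff]
    exact Subtype.ext (zz_comm g.2)

section
variable {G : Type*} [Group G] {y : ℕ → ℕ → G}

theorem exists_hom' (h : St y) : ∃ f : CC →* G, (∀ n < 12, f (gx xC n) = gx y n) ∧
    f.range = Subgroup.closure (gx y '' {n | n < 12}) := by
  obtain ⟨hfin, hcard⟩ := Held.PresCard.card_C (St.prod st_xC.1 h)
  rw [gx_prod] at hfin hcard
  exact exists_hom (gx xC) (gx y) 12 st_xC.2 hfin (hcard.trans card_CC.ge)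

theorem inj {f : CC →* G} (hf : f zC ≠ 1) : Function.Injective f := by
  rw [← MonoidHom.ker_eq_bot_iff, Subgroup.eq_bot_iff_forall]
  -- the kernel
  have hn : ∀ p : CC, ∀ k ∈ f.ker, p * k * p⁻¹ ∈ f.ker := fun p k hk =>
    (inferInstance : f.ker.Normal).conj_mem k hk p
  have key : ∀ k ∈ f.ker, (k : L5) ∈ QQ → k = 1 := by
    intro k hk hQ
    let Y : Subgroup L5 := (f.ker).map CC.subtype ⊓ QQ
    have hY : ∀ p ∈ CC, ∀ y ∈ Y, p * y * p⁻¹ ∈ Y := by
      rintro p hp _ ⟨⟨y, hy, rfl⟩, hyQ⟩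
      exact ⟨⟨_, hn ⟨p, hp⟩ y hy, rfl⟩, norm_QQ hp hyQ⟩
    have hz : zz ∉ Y := by
      rintro ⟨⟨y, hy, e⟩, -⟩
      have e' : y = zC := Subtype.ext e
      rw [e'] at hy
      exact hf hy
    have hk' : (k : L5) ∈ Y := ⟨⟨k, hk, rfl⟩, hQ⟩
    rcases normal_cases (inf_le_right : Y ≤ QQ) hY with h | h | h | h
    · rcases h _ hk' with e | e
      · exact Subtype.ext e
      · rw [e] at hk'; exact absurd hk' hz
    · exact absurd (h.ge zz_mem_R1) hz
    · exact absurd (h.ge zz_mem_R2) hz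
    · exact absurd (h.ge (R1_le_QQ zz_mem_R1)) hz
  intro k hk
  have h1 : ∀ r ∈ QQ, (k : L5) * r = r * k := by
    intro r hr
    let r' : CC := ⟨r, QQ_le_CC hr⟩
    have h2 : k * r' * k⁻¹ * r'⁻¹ ∈ f.ker := by
      have := f.ker.mul_mem hk (hn r' _ (f.ker.inv_mem hk))
      rwa [← mul_assoc, ← mul_assoc] at this
    have h3 : ((k * r' * k⁻¹ * r'⁻¹ : CC) : L5) ∈ QQ := by
      have := QQ.mul_mem (norm_QQ k.2 hr) (QQ.inv_mem hr)
      exact this
    have h4 := key _ h2 h3
    rw [mul_inv_eq_one, mul_inv_eq_iff_eq_mul] at h4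
    exact congrArg Subtype.val h4
  rcases cent_QQ k.2 h1 with e | e
  · exact Subtype.ext e
  · exfalso
    have e' : k = zC := Subtype.ext e
    rw [e'] at hk
    exact hf hk

theorem exists_inj (h : St y) (hz : y 0 4 ≠ 1) : ∃ f : CC →* G, Function.Injective f ∧
    (∀ n < 12, f (gx xC n) = gx y n) ∧ f zC = y 0 4 ∧
    f.range = Subgroup.closure (gx y '' {n | n < 12}) := by
  obtain ⟨f, hf, hr⟩ := exists_hom' h
  have e : f zC = y 0 4 := by rw [← xC04]; exact hf 3 (by norm_num)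
  exact ⟨f, inj (by rw [e]; exact hz), hf, e, hr⟩

/-- **Recognition of the centraliser from the Steinberg relations.** -/
theorem hyp [Finite G] (h : St y) (hz : y 0 4 ≠ 1)
    (hc : Nat.card (Subgroup.centralizer ({y 0 4} : Set G)) ≤ 21504) :
    ∃ f : CC →* G, Hyp (y 0 4) f ∧ ∀ n < 12, f (gx xC n) = gx y n := by
  obtain ⟨f, hi, hf, e, -⟩ := exists_inj h hz
  refine ⟨f, ⟨hi, ?_, e⟩, hf⟩
  apply Subgroup.eq_of_le_of_card_ge
  · rintro _ ⟨p, rfl⟩
    rw [Subgroup.mem_centralizer_singleton_iff, ← e, ← map_mul, ← map_mul]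
    congr 1
    exact Subtype.ext (zz_comm p.2)
  · refine hc.trans ?_
    rw [← card_CC, Nat.card_congr (MonoidHom.ofInjective hi).toEquiv]

end

end Cfsg.Agent.KFacts.TwoSix.OfSt
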